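import Mathlib

/-!
Quadratic forms in characteristic 2 with the standard alternating polar form on `F^(n+n)`: the Arf
sign as a character sum, and the transvection relating two forms of equal sign.
-/

set_option autoImplicit false

namespace CfsgLib.OClassNumTwo

open Matrix

variable {F : Type*} [Field F]

open Classical in
/-- The sign of `x` modulo the Artin-Schreier image. -/
noncomputable def ψ (x : F) : ℤ := if ∃ z, z ^ 2 + z = x then 1 else -1

theorem ψ_zero : ψ (0 : F) = 1 := if_pos ⟨0, by simp⟩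

theorem ψ_eq_one_iff (x : F) : ψ x = 1 ↔ ∃ z, z ^ 2 + z = x := by
  unfold ψ
  split_ifs with h <;> simp [h]

theorem ψ_eq (x : F) : ψ x = 1 ∨ ψ x = -1 := by
  unfold ψ
  split_ifs <;> simp

theorem ψ_mul_self (x : F) : ψ x * ψ x = 1 := by
  rcases ψ_eq x with h | h <;> simp [h]

variable {n : ℕ}

/-- The standard alternating form on `F^(n+n)`. -/
def bil (u v : Fin n ⊕ Fin n → F) : F :=
  ∑ i, (u (Sum.inl i) * v (Sum.inr i) + u (Sum.inr i) * v (Sum.inl i))

/-- A quadratic form with polar form `bil`. -/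
structure IsForm (Q : (Fin n ⊕ Fin n → F) → F) : Prop where
  smul : ∀ (c : F) v, Q (c • v) = c ^ 2 * Q v
  add : ∀ u v, Q (u + v) = Q u + Q v + bil u v

theorem bil_comm (u v : Fin n ⊕ Fin n → F) : bil u v = bil v u :=
  Finset.sum_congr rfl fun i _ => by ring

theorem bil_add_left (u u' v : Fin n ⊕ Fin n → F) : bil (u + u') v = bil u v + bil u' v := by
  simp only [bil, Pi.add_apply, ← Finset.sum_add_distrib]
  exact Finset.sum_congr rfl fun i _ => by ring

theorem bil_add_right (u v v' : Fin n ⊕ Fin n → F) : bil u (v + v') = bil u v + bil u v' := by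
  rw [bil_comm, bil_add_left, bil_comm v, bil_comm v']

theorem bil_smul_left (c : F) (u v : Fin n ⊕ Fin n → F) : bil (c • u) v = c * bil u v := by
  simp only [bil, Pi.smul_apply, smul_eq_mul, Finset.mul_sum]
  exact Finset.sum_congr rfl fun i _ => by ring

theorem bil_smul_right (c : F) (u v : Fin n ⊕ Fin n → F) : bil u (c • v) = c * bil u v := by
  rw [bil_comm, bil_smul_left, bil_comm]

theorem bil_single_inl (u : Fin n ⊕ Fin n → F) (i : Fin n) :
    bil u (Pi.single (Sum.inl i) 1) = u (Sum.inr i) := by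
  simp [bil, Pi.single_apply]

theorem bil_single_inr (u : Fin n ⊕ Fin n → F) (i : Fin n) :
    bil u (Pi.single (Sum.inr i) 1) = u (Sum.inl i) := by
  simp [bil, Pi.single_apply]

theorem eq_zero_of_bil {u : Fin n ⊕ Fin n → F} (h : ∀ v, bil u v = 0) : u = 0 := by
  funext j
  rcases j with i | i
  · rw [← bil_single_inr u i, h]; rfl
  · rw [← bil_single_inl u i, h]; rfl

theorem IsForm.zero {Q : (Fin n ⊕ Fin n → F) → F} (hQ : IsForm Q) : Q 0 = 0 := by
  have := hQ.smul 0 0
  simpa using this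

/-- `g` preserves `Q`. -/
def Preserves (Q : (Fin n ⊕ Fin n → F) → F) (g : Matrix (Fin n ⊕ Fin n) (Fin n ⊕ Fin n) F) : Prop :=
  ∀ v, Q (g *ᵥ v) = Q v

theorem Preserves.bil_eq {Q : (Fin n ⊕ Fin n → F) → F} (hQ : IsForm Q)
    {g : Matrix (Fin n ⊕ Fin n) (Fin n ⊕ Fin n) F} (hg : Preserves Q g) (u v : Fin n ⊕ Fin n → F) :
    bil (g *ᵥ u) (g *ᵥ v) = bil u v := by
  have h := hg (u + v)
  rw [mulVec_add, hQ.add, hQ.add, hg u, hg v] at h
  exact add_left_cancel h

variable [CharP F 2]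

/-- The Artin-Schreier map. -/
def asHom : F →+ F where
  toFun z := z ^ 2 + z
  map_zero' := by simp
  map_add' x y := by simp [CharTwo.add_sq]; abel

theorem ψ_eq_one_iff_mem (x : F) : ψ x = 1 ↔ x ∈ (asHom (F := F)).range :=
  ψ_eq_one_iff x

variable [Finite F]

theorem asHom_index : (asHom (F := F)).range.index = 2 := by
  have hk : ((asHom (F := F)).ker : Set F) = {0, 1} := by
    ext z
    simp only [SetLike.mem_coe, AddMonoidHom.mem_ker, Set.mem_insert_iff, Set.mem_singleton_iff]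
    show z ^ 2 + z = 0 ↔ _
    rw [sq, show z * z + z = z * (z + 1) by ring, mul_eq_zero, CharTwo.add_eq_zero]
  have hc : Nat.card (asHom (F := F)).ker = 2 := by
    show Nat.card ((asHom (F := F)).ker : Set F) = 2
    rw [hk, Nat.card_coe_set_eq, Set.ncard_pair zero_ne_one]
  have h1 := (asHom (F := F)).range.card_mul_index
  have h2 := (asHom (F := F)).ker.card_mul_index
  rw [AddSubgroup.index_ker, hc] at h2
  have h0 : 0 < Nat.card (asHom (F := F)).range := Nat.card_pos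
  rw [← h2, mul_comm 2] at h1
  exact Nat.eq_of_mul_eq_mul_left h0 h1

theorem ψ_add (x y : F) : ψ (x + y) = ψ x * ψ y := by
  have h := AddSubgroup.add_mem_iff_of_index_two (asHom_index (F := F)) (a := x) (b := y)
  rw [← ψ_eq_one_iff_mem, ← ψ_eq_one_iff_mem, ← ψ_eq_one_iff_mem] at h
  rcases ψ_eq x with hx | hx <;> rcases ψ_eq y with hy | hy <;> rcases ψ_eq (x + y) with hs | hs <;>
    simp [hx, hy, hs] at h ⊢

theorem ψ_sq (x : F) : ψ (x ^ 2) = ψ x := by
  have h : ψ (x ^ 2 + x) = 1 := (ψ_eq_one_iff _).2 ⟨x, rfl⟩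
  rw [ψ_add] at h
  rcases ψ_eq x with hx | hx <;> rw [hx] at h ⊢ <;> linarith

theorem exists_ψ_neg : ∃ x : F, ψ x = -1 := by
  obtain ⟨a, ha, -⟩ := AddSubgroup.index_eq_two_iff_exists_notMem_and.1 (asHom_index (F := F))
  exact ⟨a, (ψ_eq a).resolve_left fun h => ha ((ψ_eq_one_iff_mem a).1 h)⟩

theorem exists_ψ_eq {s : ℤ} (hs : s = 1 ∨ s = -1) : ∃ x : F, ψ x = s := by
  rcases hs with rfl | rfl
  · exact ⟨0, ψ_zero⟩
  · exact exists_ψ_neg

theorem exists_sqrt (x : F) : ∃ y, y ^ 2 = x := by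
  have h : Function.Surjective (frobenius F 2) := Finite.surjective_of_injective (frobenius_inj F 2)
  exact h x

omit [Finite F] in
theorem bil_self (u : Fin n ⊕ Fin n → F) : bil u u = 0 :=
  Finset.sum_eq_zero fun i _ => by rw [mul_comm (u (Sum.inr i)), CharTwo.add_self_eq_zero]

/-- Two forms differ by the square of a linear functional. -/
theorem exists_diff {Q Q' : (Fin n ⊕ Fin n → F) → F} (hQ : IsForm Q) (hQ' : IsForm Q') :
    ∃ w, ∀ v, Q' v = Q v + bil w v ^ 2 := by
  have hadd : ∀ u v, Q (u + v) + Q' (u + v) = (Q u + Q' u) + (Q v + Q' v) := fun u v => by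
    rw [hQ.add, hQ'.add]
    have := CharTwo.add_self_eq_zero (bil u v)
    linear_combination this
  let D : (Fin n ⊕ Fin n → F) →+ F :=
    { toFun := fun v => Q v + Q' v
      map_zero' := by simp [hQ.zero, hQ'.zero]
      map_add' := hadd }
  choose r hr using fun j => exists_sqrt (D (Pi.single j 1))
  refine ⟨r ∘ Sum.swap, fun v => ?_⟩
  have h1 : D v = ∑ j, v j ^ 2 * D (Pi.single j 1) := by
    conv_lhs => rw [← Finset.univ_sum_single v]
    rw [map_sum]
    refine Finset.sum_congr rfl fun j _ => ?_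
    have h := (show Pi.single j (v j) = v j • (Pi.single j 1 : Fin n ⊕ Fin n → F) by
      rw [← Pi.single_smul, smul_eq_mul, mul_one])
    rw [h]
    show Q (v j • _) + Q' (v j • _) = v j ^ 2 * (Q _ + Q' _)
    rw [hQ.smul, hQ'.smul]; ring
  have h2 : bil (r ∘ Sum.swap) v ^ 2 = D v := by
    rw [h1, bil, CharTwo.sum_sq, Fintype.sum_sum_type, ← Finset.sum_add_distrib]
    refine Finset.sum_congr rfl fun i _ => ?_
    simp only [Function.comp_apply, Sum.swap_inl, Sum.swap_inr, CharTwo.add_sq, mul_pow, hr]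
    ring
  rw [h2]
  show Q' v = Q v + (Q v + Q' v)
  rw [← add_assoc, CharTwo.add_self_eq_zero, zero_add]

omit [Finite F] in
theorem bil_inj_sq {x y : F} (h : x ^ 2 = y ^ 2) : x = y := frobenius_inj F 2 h

omit [Finite F] in
theorem fixed_of_preserves {Q Q' : (Fin n ⊕ Fin n → F) → F} (hQ : IsForm Q) {w : Fin n ⊕ Fin n → F}
    (hw : ∀ v, Q' v = Q v + bil w v ^ 2) {g g' : Matrix (Fin n ⊕ Fin n) (Fin n ⊕ Fin n) F}
    (hgg : g * g' = 1) (hg : Preserves Q g) (hg' : Preserves Q' g) : g *ᵥ w = w := by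
  have hk : ∀ v, bil w (g *ᵥ v) = bil w v := fun v => by
    refine bil_inj_sq ?_
    have h := hg' v
    rw [hw, hw, hg v] at h
    exact add_left_cancel h
  have h0 : g *ᵥ w + w = 0 := eq_zero_of_bil fun v => ?_
  · funext j
    exact CharTwo.add_eq_zero.1 (congrFun h0 j)
  have e : v = g *ᵥ (g' *ᵥ v) := by rw [mulVec_mulVec, hgg, one_mulVec]
  rw [e, bil_add_left, hg.bil_eq hQ, hk, CharTwo.add_self_eq_zero]

section Sum

variable [Fintype F]

/-- The character sum of a form. -/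
noncomputable def arf (Q : (Fin n ⊕ Fin n → F) → F) : ℤ := ∑ v, ψ (Q v)

theorem sum_ψ_bil {t : Fin n ⊕ Fin n → F} (ht : t ≠ 0) : ∑ v, ψ (bil v t) = 0 := by
  obtain ⟨u, hu⟩ : ∃ u, bil t u ≠ 0 := by
    by_contra h
    exact ht (eq_zero_of_bil (by simpa using h))
  obtain ⟨x, hx⟩ := exists_ψ_neg (F := F)
  have h : ∑ v, ψ (bil v t) = ∑ v, ψ (bil (v + (x / bil t u) • u) t) :=
    (Fintype.sum_equiv (Equiv.addRight ((x / bil t u) • u)) _ _ fun v => rfl).symm
  have h' : ∀ v, ψ (bil (v + (x / bil t u) • u) t) = -ψ (bil v t) := fun v => by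
    rw [bil_add_left, bil_smul_left, bil_comm u t, div_mul_cancel₀ x hu, ψ_add, hx, mul_neg_one]
  simp only [h', Finset.sum_neg_distrib] at h
  linarith

theorem arf_mul_self {Q : (Fin n ⊕ Fin n → F) → F} (hQ : IsForm Q) :
    arf Q * arf Q = (Fintype.card F : ℤ) ^ (n + n) := by
  rw [arf, Finset.sum_mul_sum]
  have h : ∀ v : Fin n ⊕ Fin n → F, ∑ u, ψ (Q v) * ψ (Q u) = ∑ t, ψ (Q t) * ψ (bil v t) := fun v => by
    rw [← Fintype.sum_equiv (Equiv.addLeft v) (fun t => ψ (Q v) * ψ (Q (v + t))) _ fun t => rfl]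
    refine Finset.sum_congr rfl fun t _ => ?_
    rw [hQ.add, ψ_add, ψ_add, ← mul_assoc, ← mul_assoc, ψ_mul_self, one_mul]
  rw [Finset.sum_congr rfl fun v _ => h v, Finset.sum_comm, Finset.sum_eq_single 0]
  · have hb : ∀ v : Fin n ⊕ Fin n → F, bil v 0 = 0 := fun v => by simp [bil]
    simp [hQ.zero, hb, ψ_zero]
  · intro t _ ht
    rw [← Finset.mul_sum, sum_ψ_bil ht, mul_zero]
  · simp

theorem arf_ne_zero {Q : (Fin n ⊕ Fin n → F) → F} (hQ : IsForm Q) : arf Q ≠ 0 := fun h => by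
  have := arf_mul_self hQ
  rw [h, mul_zero] at this
  exact pow_ne_zero _ (Nat.cast_ne_zero.2 Fintype.card_ne_zero) this.symm

theorem arf_of_diff {Q Q' : (Fin n ⊕ Fin n → F) → F} (hQ : IsForm Q) {w : Fin n ⊕ Fin n → F}
    (hw : ∀ v, Q' v = Q v + bil w v ^ 2) : arf Q' = ψ (Q w) * arf Q := by
  rw [arf, arf, Finset.mul_sum]
  refine Fintype.sum_equiv (Equiv.addRight w) _ _ fun v => ?_
  show ψ (Q' v) = ψ (Q w) * ψ (Q (v + w))
  rw [hw, ψ_add, ψ_sq, hQ.add, ψ_add, ψ_add, bil_comm v w,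
    show ψ (Q w) * (ψ (Q v) * ψ (Q w) * ψ (bil w v)) = ψ (Q w) * ψ (Q w) * (ψ (Q v) * ψ (bil w v)) by ring,
    ψ_mul_self, one_mul]

/-- Forms of equal sign are exchanged by a transvection commuting with every common isometry. -/
theorem exists_transfer {Q Q' : (Fin n ⊕ Fin n → F) → F} (hQ : IsForm Q) (hQ' : IsForm Q')
    (h : arf Q' = arf Q) :
    ∃ x : Matrix (Fin n ⊕ Fin n) (Fin n ⊕ Fin n) F, x * x = 1 ∧
      (∀ u v, bil (x *ᵥ u) (x *ᵥ v) = bil u v) ∧ (∀ v, Q (x *ᵥ v) = Q' v) ∧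
      ∀ g g', g * g' = 1 → Preserves Q g → Preserves Q' g → x * g = g * x := by
  obtain ⟨w, hw⟩ := exists_diff hQ hQ'
  have h1 : ψ (Q w) = 1 := by
    have := arf_of_diff hQ hw
    rw [h] at this
    exact mul_right_cancel₀ (arf_ne_zero hQ) (by rw [one_mul]; exact this.symm)
  obtain ⟨z, hz⟩ := (ψ_eq_one_iff _).1 h1
  obtain ⟨c, hc⟩ : ∃ c : F, c ^ 2 * Q w + c = 1 := by
    by_cases h0 : Q w = 0
    · exact ⟨1, by simp [h0]⟩
    · refine ⟨z / Q w, ?_⟩
      field_simp
      linear_combination hz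
  let φ : (Fin n ⊕ Fin n → F) →ₗ[F] (Fin n ⊕ Fin n → F) :=
    { toFun := fun v => v + (c * bil v w) • w
      map_add' := fun u v => by rw [bil_add_left, mul_add, add_smul]; abel
      map_smul' := fun a v => by
        rw [bil_smul_left, RingHom.id_apply, smul_add, smul_smul, mul_left_comm] }
  have hx : ∀ v, LinearMap.toMatrix' φ *ᵥ v = v + (c * bil v w) • w := fun v => by
    rw [← Matrix.toLin'_apply, Matrix.toLin'_toMatrix']; rfl
  have hQx : ∀ v, Q (LinearMap.toMatrix' φ *ᵥ v) = Q' v := fun v => by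
    rw [hx, hQ.add, hQ.smul, bil_smul_right, hw, bil_comm w v]
    linear_combination bil v w ^ 2 * hc
  refine ⟨LinearMap.toMatrix' φ, ?_, fun u v => ?_, hQx, fun g g' hgg hg hg' => ?_⟩
  · refine Matrix.ext_of_mulVec_single fun j => ?_
    rw [← mulVec_mulVec, hx, hx, one_mulVec, bil_add_left, bil_smul_left, bil_self, mul_zero, add_zero,
      add_assoc, ← add_smul, CharTwo.add_self_eq_zero, zero_smul, add_zero]
  · have e := hQx (u + v)
    rw [mulVec_add, hQ.add, hQx, hQx, hQ'.add] at e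
    exact add_left_cancel e
  · refine Matrix.ext_of_mulVec_single fun j => ?_
    have hgw := fixed_of_preserves hQ hw hgg hg hg'
    have e := hg.bil_eq hQ (Pi.single j 1) w
    rw [hgw] at e
    rw [← mulVec_mulVec, ← mulVec_mulVec, hx, hx, e, mulVec_add, mulVec_smul, hgw]

end Sum

end CfsgLib.OClassNumTwo
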