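import Cfsg.Agent.Lib.OClassNumTwo.Arf

/-!
For characteristic 2, a monic polynomial `h` of degree `n` gives an isometry `g` of a quadratic form
of dimension `2n` with `g + g⁻¹` having characteristic polynomial `h²`; the sign of the form is
that of `h₁/h₀`, and is arbitrary when `h₀ = 0`.
-/

set_option autoImplicit false

namespace CfsgLib.OClassNumTwo

open Matrix Polynomial

variable {F : Type*} [Field F] [CharP F 2]

/-- The data for one isometry. -/
structure IsBlock {κ : Type*} [Fintype κ] [DecidableEq κ] (J S : Matrix κ κ F) (d : κ → F) (h : F[X])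
    (τ : ℤ) : Prop where
  symm : Jᵀ = J
  unit : IsUnit J.det
  symmS : (J * S)ᵀ = J * S
  char : S.charpoly = h
  compat : ∀ u, (d ⬝ᵥ (J * S) *ᵥ u) ^ 2 = u ⬝ᵥ (J * S) *ᵥ u
  sign : ψ (d ⬝ᵥ J *ᵥ d) = τ

theorem IsBlock.reindex {κ μ : Type*} [Fintype κ] [DecidableEq κ] [Fintype μ] [DecidableEq μ]
    {J S : Matrix κ κ F} {d : κ → F} {h : F[X]} {τ : ℤ} (hb : IsBlock J S d h τ) (e : κ ≃ μ) :
    IsBlock (J.submatrix e.symm e.symm) (S.submatrix e.symm e.symm) (d ∘ e.symm) h τ where
  symm := by rw [transpose_submatrix, hb.symm]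
  unit := by rw [det_submatrix_equiv_self]; exact hb.unit
  symmS := by rw [submatrix_mul_equiv, transpose_submatrix, hb.symmS]
  char := by rw [← hb.char]; exact charpoly_reindex e S
  compat u := by
    rw [submatrix_mul_equiv, submatrix_mulVec_equiv, Equiv.symm_symm]
    have h1 := hb.compat (u ∘ e)
    rw [comp_equiv_dotProduct_comp_equiv]
    rw [h1, ← comp_equiv_symm_dotProduct, Equiv.symm_symm]
  sign := by
    rw [submatrix_mulVec_equiv, Equiv.symm_symm, Function.comp_assoc, Equiv.symm_comp_self,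
      Function.comp_id, comp_equiv_dotProduct_comp_equiv]
    exact hb.sign

variable [Finite F]

theorem IsBlock.sum {κ μ : Type*} [Fintype κ] [DecidableEq κ] [Fintype μ] [DecidableEq μ]
    {J S : Matrix κ κ F} {d : κ → F} {h : F[X]} {τ : ℤ} (hb : IsBlock J S d h τ)
    {J' S' : Matrix μ μ F} {d' : μ → F} {h' : F[X]} {τ' : ℤ} (hb' : IsBlock J' S' d' h' τ') :
    IsBlock (fromBlocks J 0 0 J') (fromBlocks S 0 0 S') (Sum.elim d d') (h * h') (τ * τ') where
  symm := by simp [fromBlocks_transpose, hb.symm, hb'.symm]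
  unit := by rw [det_fromBlocks_zero₁₂]; exact hb.unit.mul hb'.unit
  symmS := by simp [fromBlocks_multiply, fromBlocks_transpose, hb.symmS, hb'.symmS]
  char := by rw [charpoly_fromBlocks_zero₁₂, hb.char, hb'.char]
  compat u := by
    obtain ⟨a, b, rfl⟩ : ∃ a b, u = Sum.elim a b := ⟨_, _, (Sum.elim_comp_inl_inr u).symm⟩
    simp [fromBlocks_multiply, fromBlocks_mulVec, sumElim_dotProduct_sumElim, CharTwo.add_sq,
      hb.compat, hb'.compat]
  sign := by
    simp [fromBlocks_mulVec, sumElim_dotProduct_sumElim, ψ_add, hb.sign, hb'.sign]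

/-- Derivatives are squares. -/
theorem exists_sq_derivative (f : F[X]) : ∃ s, s ^ 2 = derivative f := by
  have h2 : derivative (derivative f) = 0 := by
    ext m
    rw [coeff_derivative, coeff_derivative, coeff_zero, mul_assoc, Nat.cast_add, Nat.cast_one]
    have : ((m : F) + 1 + 1) * (m + 1) = 0 := by
      rw [add_assoc, one_add_one_eq_two, CharTwo.two_eq_zero, add_zero, mul_add, mul_one, ← sq]
      norm_cast
      rw [CharP.cast_eq_zero_iff F 2, ← even_iff_two_dvd]
      simp [Nat.even_add, parity_simps]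
    rw [this, mul_zero]
  choose r hr using fun x : F => exists_sqrt x
  let R : F →+* F :=
    { toFun := r
      map_one' := bil_inj_sq (by rw [hr]; simp)
      map_zero' := bil_inj_sq (by rw [hr]; simp)
      map_mul' := fun x y => bil_inj_sq (by rw [hr, mul_pow, hr, hr])
      map_add' := fun x y => bil_inj_sq (by rw [hr, CharTwo.add_sq, hr, hr]) }
  refine ⟨(contract 2 (derivative f)).map R, ?_⟩
  rw [← map_frobenius_expand, Polynomial.map_expand, Polynomial.map_map]
  have hR : (frobenius F 2).comp R = RingHom.id F := RingHom.ext hr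
  rw [hR, Polynomial.map_id, expand_contract 2 h2 two_ne_zero]

theorem coeff_mod_sq {h u v : F[X]} (hm : h.Monic) (hk : 0 < h.natDegree)
    (hv : v ^ 2 = derivative (u * h)) :
    (v %ₘ h).coeff (h.natDegree - 1) ^ 2 = (u %ₘ h).coeff (h.natDegree - 1) := by
  set k := h.natDegree with hkdef
  have h1 : h ≠ 1 := fun e => by rw [hkdef, e, natDegree_one] at hk; exact lt_irrefl _ hk
  set r := u %ₘ h with hr
  set Q := u /ₘ h
  have hu : r + h * Q = u := modByMonic_add_div u h
  obtain ⟨ρ, hρ⟩ := exists_sq_derivative (r * h)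
  obtain ⟨s, hs⟩ := exists_sq_derivative Q
  have hv2 : v = ρ + h * s := by
    refine frobenius_inj F[X] 2 ?_
    simp only [frobenius_def]
    rw [hv, CharTwo.add_sq, mul_pow, hρ, hs, ← hu]
    simp only [derivative_mul, derivative_add]
    linear_combination (h * Q * derivative h) * (CharTwo.two_eq_zero : (2 : F[X]) = 0)
  have hrd : r.natDegree < k := natDegree_modByMonic_lt u hm h1
  have hρd : ρ.natDegree ≤ k - 1 := by
    have e1 := congrArg natDegree hρ
    rw [natDegree_pow] at e1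
    have e2 := natDegree_derivative_le (r * h)
    have e3 : (r * h).natDegree ≤ r.natDegree + k := natDegree_mul_le
    omega
  have hρdeg : ρ.degree < h.degree := by
    rw [degree_eq_natDegree hm.ne_zero]
    exact lt_of_le_of_lt degree_le_natDegree (by exact_mod_cast (by omega : ρ.natDegree < k))
  rw [(div_modByMonic_unique s ρ hm ⟨hv2.symm, hρdeg⟩).2, ← coeff_pow_of_natDegree_le hρd, hρ,
    coeff_derivative, show 2 * (k - 1) + 1 = (k - 1) + k by omega,
    coeff_mul_add_eq_of_natDegree_le (by omega) le_rfl, hm.coeff_natDegree, mul_one]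
  rw [Nat.cast_mul, Nat.cast_ofNat, CharTwo.two_eq_zero, zero_mul, zero_add, mul_one]

theorem exists_block_of_coeff {h : F[X]} (hm : h.Monic) (hk : 0 < h.natDegree) (h0 : h.coeff 0 ≠ 0) :
    ∃ (J S : Matrix (Fin h.natDegree) (Fin h.natDegree) F) (d : Fin h.natDegree → F),
      IsBlock J S d h (ψ (h.coeff 1 / h.coeff 0)) := by
  set k := h.natDegree with hkdef
  let pb := AdjoinRoot.powerBasis' hm
  haveI : FiniteDimensional F (AdjoinRoot h) := pb.finite
  let L : AdjoinRoot h →ₗ[F] F :=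
    (Polynomial.lcoeff F (k - 1)).comp (AdjoinRoot.modByMonicHom hm)
  have hL : ∀ p, L (AdjoinRoot.mk h p) = (p %ₘ h).coeff (k - 1) := fun p => by
    show (AdjoinRoot.modByMonicHom hm (AdjoinRoot.mk h p)).coeff (k - 1) = _
    rw [AdjoinRoot.modByMonicHom_mk]
  let β : AdjoinRoot h →ₗ[F] AdjoinRoot h →ₗ[F] F := (LinearMap.mul F (AdjoinRoot h)).compr₂ L
  have hβ : ∀ u w, β u w = L (u * w) := fun u w => rfl
  have hβnd : β.SeparatingLeft := by
    intro u hu
    by_contra hu0
    obtain ⟨p, rfl⟩ := AdjoinRoot.mk_surjective u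
    have hh1 : h ≠ 1 := fun e => by rw [hkdef, e, natDegree_one] at hk; exact lt_irrefl _ hk
    rw [← AdjoinRoot.mk_leftInverse hm (AdjoinRoot.mk h p), AdjoinRoot.modByMonicHom_mk] at hu hu0
    set s := p %ₘ h with hs
    have hs0 : s ≠ 0 := fun e => hu0 (by rw [e, map_zero])
    have hsd : s.natDegree < k := natDegree_modByMonic_lt p hm hh1
    have h1 := hu (AdjoinRoot.mk h (X ^ (k - 1 - s.natDegree)))
    rw [hβ, ← map_mul, hL, (modByMonic_eq_self_iff hm).2 (by
      rw [degree_eq_natDegree hm.ne_zero, degree_eq_natDegree (mul_ne_zero hs0 (pow_ne_zero _ X_ne_zero)),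
        Nat.cast_lt, natDegree_mul_X_pow _ hs0]
      omega)] at h1
    have h2 := coeff_mul_X_pow s (k - 1 - s.natDegree) s.natDegree
    rw [show s.natDegree + (k - 1 - s.natDegree) = k - 1 by omega] at h2
    rw [h2] at h1
    exact hs0 (leadingCoeff_eq_zero.1 h1)
  let b : Module.Basis (Fin k) F (AdjoinRoot h) := pb.basis
  let M := LinearMap.toMatrix₂ b b β
  let S := Algebra.leftMulMatrix b (AdjoinRoot.root h)
  have hJS : M * S = LinearMap.toMatrix₂ b b (β.compl₂ (LinearMap.mulLeft F (AdjoinRoot.root h))) :=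
    (LinearMap.toMatrix₂_compl₂ b b b β _).symm
  have key : ∀ u v : F[X], v ^ 2 = derivative (u * h) →
      L (AdjoinRoot.mk h v) ^ 2 = L (AdjoinRoot.mk h u) := fun u v hv => by
    rw [hL, hL]; exact coeff_mod_sq hm hk hv
  set H := h.divX with hH
  set a := h.coeff 0 with ha
  have eh : X * H + C a = h := X_mul_divX_add h
  obtain ⟨s, hs⟩ := exists_sq_derivative (C a⁻¹ * H * h)
  obtain ⟨t, ht⟩ := exists_sqrt a⁻¹
  have eC : C a⁻¹ * C a = (1 : F[X]) := by rw [← C_mul, inv_mul_cancel₀ h0, C_1]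
  have two : (2 : F[X]) = 0 := CharTwo.two_eq_zero
  have hcompat : ∀ U, L (AdjoinRoot.mk h s * (AdjoinRoot.root h * U)) ^ 2 =
      L (U * (AdjoinRoot.root h * U)) := by
    intro U
    obtain ⟨p, rfl⟩ := AdjoinRoot.mk_surjective U
    rw [← AdjoinRoot.mk_X, ← map_mul, ← map_mul, ← map_mul]
    have e : AdjoinRoot.mk h (s * (X * p)) = AdjoinRoot.mk h (s * (X * p) + C t * p * h) := by
      rw [map_add, map_mul _ (C t * p) h, AdjoinRoot.mk_self, mul_zero, add_zero]
    rw [e]
    refine key _ _ ?_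
    have e1 : C a⁻¹ * H * X = C a⁻¹ * h + 1 := by linear_combination C a⁻¹ * eh - eC - two
    have e1' := congrArg derivative e1
    simp only [derivative_add, derivative_mul, derivative_X, derivative_C, derivative_one, zero_mul,
      zero_add, add_zero, mul_one] at e1'
    have e2 : derivative (C a⁻¹ * H * h) * X + C a⁻¹ * H * h = derivative h := by
      simp only [derivative_mul, derivative_C, zero_mul, zero_add]
      linear_combination h * e1' + derivative h * e1 + C a⁻¹ * h * derivative h * two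
    rw [CharTwo.add_sq, mul_pow, hs, mul_pow, mul_pow, mul_pow, ← C_pow, ht]
    have eu : derivative (p * (X * p) * h) =
        p ^ 2 * (h + X * derivative h) + (derivative p * X * p * h) * 2 := by
      simp only [derivative_mul, derivative_X, one_mul]
      ring
    rw [eu]
    linear_combination p ^ 2 * X * e2 - p ^ 2 * h * e1 -
      (p ^ 2 * h + derivative p * X * p * h) * two
  have hsign : L (AdjoinRoot.mk h s * AdjoinRoot.mk h s) = h.coeff 1 / a := by
    rw [← map_mul, ← sq, hs, derivative_mul, derivative_mul, derivative_C, zero_mul, zero_add]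
    have eh' := congrArg derivative eh
    simp only [derivative_add, derivative_mul, derivative_X, derivative_C, one_mul, add_zero] at eh'
    have eH : X * H.divX + C (h.coeff 1) = H := by
      have := X_mul_divX_add H
      rwa [hH, coeff_divX, zero_add, ← hH] at this
    set r := C a⁻¹ * (C a * (H.divX + derivative H) + C (h.coeff 1) * H) with hr
    have e : C a⁻¹ * derivative H * h + C a⁻¹ * H * derivative h = r + h * (C a⁻¹ * H.divX) := by
      rw [hr]
      linear_combination (C a⁻¹ * (derivative H - H.divX)) * eh.symm + (C a⁻¹ * H) * eh'.symm +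
        (C a⁻¹ * H) * eH.symm + (C a⁻¹ * (derivative H * X * H - C a * H.divX)) * two
    rw [e, map_add, map_mul _ h, AdjoinRoot.mk_self, zero_mul, add_zero, hL]
    have hHd : H.natDegree = k - 1 := natDegree_divX_eq_natDegree_tsub_one
    have hdd : r.natDegree ≤ k - 1 := by
      refine (natDegree_C_mul_le _ _).trans ((natDegree_add_le _ _).trans (max_le ?_ ?_))
      · refine (natDegree_C_mul_le _ _).trans ((natDegree_add_le _ _).trans (max_le ?_ ?_))
        · rw [natDegree_divX_eq_natDegree_tsub_one, hHd]; omega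
        · exact (natDegree_derivative_le _).trans (by omega)
      · exact (natDegree_C_mul_le _ _).trans hHd.le
    rw [(modByMonic_eq_self_iff hm).2 (by
      rw [degree_eq_natDegree hm.ne_zero]
      exact lt_of_le_of_lt degree_le_natDegree (by exact_mod_cast (by omega : r.natDegree < k))), hr]
    have c1 : H.coeff (k - 1) = 1 := by
      rw [hH, coeff_divX, Nat.sub_add_cancel hk, hkdef, hm.coeff_natDegree]
    have c2 : H.divX.coeff (k - 1) = 0 := by
      rw [coeff_divX, hH, coeff_divX, coeff_eq_zero_of_natDegree_lt]; omega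
    have c3 : (derivative H).coeff (k - 1) = 0 := by
      rw [coeff_derivative, coeff_eq_zero_of_natDegree_lt (p := H) (by omega), zero_mul]
    rw [coeff_C_mul, coeff_add, coeff_C_mul, coeff_C_mul, coeff_add, c1, c2, c3, div_eq_inv_mul]
    ring
  have hd : ∀ (B : AdjoinRoot h →ₗ[F] AdjoinRoot h →ₗ[F] F) (x y : Fin k → F),
      x ⬝ᵥ LinearMap.toMatrix₂ b b B *ᵥ y = B (b.equivFun.symm x) (b.equivFun.symm y) :=
    fun B x y => dotProduct_toMatrix₂_mulVec b b B x y
  refine ⟨M, S, b.equivFun (AdjoinRoot.mk h s), ?_, isUnit_iff_ne_zero.2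
    ((LinearMap.separatingLeft_iff_det_ne_zero b).1 hβnd), ?_, ?_, fun u => ?_, ?_⟩
  · ext i j
    simp only [M, Matrix.transpose_apply, LinearMap.toMatrix₂_apply, hβ, mul_comm]
  · ext i j
    rw [hJS, Matrix.transpose_apply, LinearMap.toMatrix₂_apply, LinearMap.toMatrix₂_apply]
    simp only [LinearMap.compl₂_apply, LinearMap.mulLeft_apply, hβ]
    congr 1
    ring
  · have hmin := charpoly_leftMulMatrix pb
    rw [show pb.gen = AdjoinRoot.root h from rfl, AdjoinRoot.minpoly_root hm.ne_zero, hm.leadingCoeff,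
      inv_one, C_1, mul_one] at hmin
    exact hmin
  · rw [hJS, hd, hd, LinearEquiv.symm_apply_apply]
    exact hcompat _
  · rw [hd, LinearEquiv.symm_apply_apply, hβ, hsign]

theorem exists_block : ∀ (n : ℕ) (h : F[X]) (τ : ℤ), h.Monic → h.natDegree = n → (τ = 1 ∨ τ = -1) →
    ((h.coeff 0 = 0) ∨ ψ (h.coeff 1 / h.coeff 0) = τ) →
    ∃ (J S : Matrix (Fin n) (Fin n) F) (d : Fin n → F), IsBlock J S d h τ := by
  intro n
  induction n with
  | zero =>
    intro h τ hm hn _ hc
    obtain rfl := hm.natDegree_eq_zero.1 hn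
    have hτ : (1 : ℤ) = τ := by simpa [coeff_one, ψ_zero] using hc
    refine ⟨1, 1, 0, ⟨transpose_one, by simp, by simp, ?_, fun u => by simp [dotProduct],
      by simp [ψ_zero, hτ]⟩⟩
    exact Matrix.charpoly_isEmpty
  | succ k ih =>
    intro h τ hm hn hτ hc
    by_cases h0 : h.coeff 0 = 0
    · have eh : X * h.divX = h := by
        have := X_mul_divX_add h
        rwa [h0, C_0, add_zero] at this
      have hm' : h.divX.Monic := monic_X.of_mul_monic_left (eh.symm ▸ hm)
      have hd' : h.divX.natDegree = k := by rw [natDegree_divX_eq_natDegree_tsub_one, hn]; rfl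
      obtain ⟨τ', hτ', hc'⟩ : ∃ τ' : ℤ, (τ' = 1 ∨ τ' = -1) ∧
          (h.divX.coeff 0 = 0 ∨ ψ (h.divX.coeff 1 / h.divX.coeff 0) = τ') :=
        ⟨_, ψ_eq _, Or.inr rfl⟩
      obtain ⟨J', S', d', hb'⟩ := ih h.divX τ' hm' hd' hτ' hc'
      obtain ⟨t, ht⟩ := exists_ψ_eq (F := F) (s := τ * τ') (by
        rcases hτ with rfl | rfl <;> rcases hτ' with rfl | rfl <;> simp)
      have hb : IsBlock (1 : Matrix (Fin 1) (Fin 1) F) 0 (fun _ => t) X (τ * τ') := by
        refine ⟨transpose_one, by simp, by simp, ?_, fun u => by simp, ?_⟩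
        · simp [Matrix.charpoly_zero]
        · simp only [one_mulVec, dotProduct, Finset.univ_unique, Finset.sum_singleton]
          rw [← sq, ψ_sq, ht]
      have hs := (hb.sum hb').reindex (finSumFinEquiv.trans (finCongr (Nat.add_comm 1 k)))
      rw [eh, mul_assoc, show τ' * τ' = 1 by rcases hτ' with rfl | rfl <;> simp, mul_one] at hs
      exact ⟨_, _, _, hs⟩
    · obtain rfl : ψ (h.coeff 1 / h.coeff 0) = τ := hc.resolve_left h0
      obtain ⟨J, S, d, hb⟩ := exists_block_of_coeff hm (by omega) h0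
      exact ⟨_, _, _, hb.reindex (finCongr hn)⟩

section Elem

variable {n : ℕ} [Fintype F]

omit [Finite F]

/-- A form with explicit sign. -/
def stdForm (c d : Fin n → F) (v : Fin n ⊕ Fin n → F) : F :=
  (v ∘ Sum.inl) ⬝ᵥ (v ∘ Sum.inr) + (c ⬝ᵥ v ∘ Sum.inl) ^ 2 + (d ⬝ᵥ v ∘ Sum.inr) ^ 2

omit [Fintype F] in
theorem stdForm_isForm (c d : Fin n → F) : IsForm (stdForm c d) := by
  refine ⟨fun a v => ?_, fun u v => ?_⟩
  · simp only [stdForm, Pi.smul_comp, dotProduct_smul, smul_dotProduct, smul_eq_mul]; ring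
  · have e : bil u v = (u ∘ Sum.inl) ⬝ᵥ (v ∘ Sum.inr) + (v ∘ Sum.inl) ⬝ᵥ (u ∘ Sum.inr) := by
      simp only [bil, dotProduct, Function.comp_apply, ← Finset.sum_add_distrib]
      exact Finset.sum_congr rfl fun i _ => by ring
    simp only [stdForm, e, Pi.add_comp, dotProduct_add, add_dotProduct, CharTwo.add_sq]
    ring

theorem arf_std : arf (stdForm (0 : Fin n → F) 0) = (Fintype.card F : ℤ) ^ n := by
  rw [arf]
  rw [← Fintype.sum_equiv (Equiv.sumArrowEquivProdArrow (Fin n) (Fin n) F).symm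
    (fun p : (Fin n → F) × (Fin n → F) => ψ (p.1 ⬝ᵥ p.2)) _ fun p => by
      obtain ⟨x, y⟩ := p
      rw [show (Equiv.sumArrowEquivProdArrow (Fin n) (Fin n) F).symm (x, y) = Sum.elim x y from rfl,
        stdForm, Sum.elim_comp_inl, Sum.elim_comp_inr, zero_dotProduct, zero_dotProduct, zero_pow two_ne_zero,
        add_zero, add_zero]]
  rw [Fintype.sum_prod_type, Finset.sum_eq_single 0]
  · simp [ψ_zero]
  · intro x _ hx
    obtain ⟨i, hi⟩ := Function.ne_iff.1 hx
    obtain ⟨t, ht⟩ := exists_ψ_neg (F := F)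
    obtain ⟨u, hu⟩ : ∃ u : Fin n → F, x ⬝ᵥ u = t :=
      ⟨Pi.single i (t / x i), by rw [dotProduct_single, mul_div_cancel₀ t (show x i ≠ 0 from hi)]⟩
    have h' : ∀ y, ψ (x ⬝ᵥ (y + u)) = -ψ (x ⬝ᵥ y) := fun y => by
      rw [dotProduct_add, hu, ψ_add, ht, mul_neg_one]
    have h := Equiv.sum_comp (Equiv.addRight u) (fun y : Fin n → F => ψ (x ⬝ᵥ y))
    simp only [Equiv.coe_addRight] at h
    simp only [h', Finset.sum_neg_distrib] at h
    linarith
  · simp

theorem arf_stdForm (c d : Fin n → F) :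
    arf (stdForm c d) = ψ (c ⬝ᵥ d) * (Fintype.card F : ℤ) ^ n := by
  have hw : ∀ v, stdForm c d v = stdForm 0 0 v + bil (Sum.elim d c) v ^ 2 := fun v => by
    have e : bil (Sum.elim d c) v = d ⬝ᵥ v ∘ Sum.inr + c ⬝ᵥ v ∘ Sum.inl := by
      simp only [bil, dotProduct, Function.comp_apply, Sum.elim_inl, Sum.elim_inr, ← Finset.sum_add_distrib]
    rw [e, CharTwo.add_sq]
    simp [stdForm]
    ring
  rw [arf_of_diff (stdForm_isForm 0 0) hw, arf_std]
  simp [stdForm, dotProduct_comm c d]

/-- The isometry attached to a block. -/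
theorem IsBlock.exists_elem {J S : Matrix (Fin n) (Fin n) F} {d : Fin n → F} {h : F[X]} {τ : ℤ}
    (hb : IsBlock J S d h τ) :
    ∃ (Q : (Fin n ⊕ Fin n → F) → F) (g g' : Matrix (Fin n ⊕ Fin n) (Fin n ⊕ Fin n) F),
      IsForm Q ∧ arf Q = τ * (Fintype.card F : ℤ) ^ n ∧ g * g' = 1 ∧ Preserves Q g ∧
      (g + g').charpoly = h ^ 2 := by
  have hK1 : J * J⁻¹ = 1 := Matrix.mul_nonsing_inv J hb.unit
  have hK2 : J⁻¹ * J = 1 := Matrix.nonsing_inv_mul J hb.unit
  have hKs : (J⁻¹)ᵀ = J⁻¹ := by rw [Matrix.transpose_nonsing_inv, hb.symm]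
  set K := J⁻¹ with hK
  refine ⟨stdForm (J *ᵥ d) d, fromBlocks 0 K J (J * S * K), fromBlocks S K J 0, stdForm_isForm _ _,
    ?_, ?_, fun v => ?_, ?_⟩
  · rw [arf_stdForm, dotProduct_comm, hb.sign]
  · rw [fromBlocks_multiply, ← fromBlocks_one]
    congr 1
    · simp [hK2]
    · simp
    · rw [Matrix.mul_assoc (J * S), hK2, Matrix.mul_one]
      exact funext fun i => funext fun j => CharTwo.add_self_eq_zero _
    · simp [hK1]
  · have sJ : ∀ x y, (J *ᵥ x) ⬝ᵥ y = x ⬝ᵥ (J *ᵥ y) := fun x y => by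
      rw [dotProduct_mulVec, ← mulVec_transpose, hb.symm]
    simp only [stdForm, fromBlocks_mulVec, Sum.elim_comp_inl, Sum.elim_comp_inr, zero_mulVec, zero_add]
    set x := v ∘ Sum.inl
    set z := v ∘ Sum.inr
    have e1 : J *ᵥ (K *ᵥ z) = z := by rw [mulVec_mulVec, hK1, one_mulVec]
    have e3 : (K *ᵥ z) ⬝ᵥ (J *ᵥ x) = x ⬝ᵥ z := by rw [← sJ, e1, dotProduct_comm]
    rw [← mulVec_mulVec, dotProduct_add, dotProduct_add, CharTwo.add_sq, hb.compat, e3, sJ d (K *ᵥ z), e1,
      ← sJ d x]
    linear_combination CharTwo.add_self_eq_zero ((K *ᵥ z) ⬝ᵥ (J * S) *ᵥ (K *ᵥ z))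
  · rw [fromBlocks_add]
    have hz : ∀ M : Matrix (Fin n) (Fin n) F, M + M = 0 := fun M =>
      funext fun i => funext fun j => CharTwo.add_self_eq_zero _
    rw [zero_add, add_zero, hz, hz, charpoly_fromBlocks_zero₁₂, hb.char]
    obtain ⟨u, hu⟩ := (Matrix.isUnit_iff_isUnit_det J).2 hb.unit
    rw [hK, ← hu, charpoly_units_conj, hb.char, sq]

end Elem

end CfsgLib.OClassNumTwo
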