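import Cfsg.Agent.Lib.OClassNumTwo.Block
import Cfsg.Prelude.Def_Classical

/-!
Classes of an orthogonal group in characteristic 2 against those of the symplectic group containing it.
-/

set_option autoImplicit false

namespace CfsgLib.OClassNumTwo

open Matrix Polynomial

variable {F : Type*} [Field F] [CharP F 2] {n : ℕ}

local notation "Sp" => Matrix.symplecticGroup (Fin n) F
local notation "M2" => Matrix (Fin n ⊕ Fin n) (Fin n ⊕ Fin n) F

theorem bil_eq_dotProduct (u v : Fin n ⊕ Fin n → F) : bil u v = u ⬝ᵥ Matrix.J (Fin n) F *ᵥ v := by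
  rw [Matrix.J, fromBlocks_mulVec]
  simp only [dotProduct, Fintype.sum_sum_type, Sum.elim_inl, Sum.elim_inr, zero_mulVec, zero_add,
    add_zero, neg_mulVec, one_mulVec, Pi.neg_apply, CharTwo.neg_eq, Function.comp_apply, ← Finset.sum_add_distrib]
  rfl

theorem mem_symplectic {A : M2} (h : ∀ u v, bil (A *ᵥ u) (A *ᵥ v) = bil u v) : A ∈ Sp := by
  rw [SymplecticGroup.mem_iff']
  refine Matrix.ext fun i j => ?_
  have := h (Pi.single i 1) (Pi.single j 1)
  rw [bil_eq_dotProduct, bil_eq_dotProduct, dotProduct_mulVec, ← vecMul_transpose,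
    Matrix.vecMul_vecMul, dotProduct_mulVec, Matrix.vecMul_vecMul] at this
  simpa [single_one_vecMul, dotProduct_single] using this

theorem bil_map (A : Sp) (u v : Fin n ⊕ Fin n → F) :
    bil ((A : M2) *ᵥ u) ((A : M2) *ᵥ v) = bil u v := by
  rw [bil_eq_dotProduct, bil_eq_dotProduct, dotProduct_mulVec, ← vecMul_transpose,
    Matrix.vecMul_vecMul, dotProduct_mulVec, Matrix.vecMul_vecMul, SymplecticGroup.mem_iff'.1 A.2,
    ← dotProduct_mulVec]

omit [CharP F 2] in
theorem coe_mul_inv (A : Sp) : (A : M2) * ((A⁻¹ : Sp) : M2) = 1 := by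
  rw [← Submonoid.coe_mul, mul_inv_cancel, Submonoid.coe_one]

omit [CharP F 2] in
theorem coe_inv_mul (A : Sp) : ((A⁻¹ : Sp) : M2) * (A : M2) = 1 := by
  rw [← Submonoid.coe_mul, inv_mul_cancel, Submonoid.coe_one]

/-- The isometries of `Q`, inside the symplectic group. -/
def OQ (Q : (Fin n ⊕ Fin n → F) → F) : Subgroup Sp where
  carrier := {A | Preserves Q (A : M2)}
  mul_mem' {a b} ha hb := fun v => by
    rw [Submonoid.coe_mul, ← mulVec_mulVec, ha, hb]
  one_mem' := fun v => by rw [Submonoid.coe_one, one_mulVec]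
  inv_mem' {a} ha := fun v => by
    have h := ha (((a⁻¹ : Sp) : M2) *ᵥ v)
    rw [mulVec_mulVec, coe_mul_inv, one_mulVec] at h
    exact h.symm

/-- The invariant `charpoly (g + g⁻¹)`. -/
noncomputable def key (A : Sp) : F[X] := ((A : M2) + ((A⁻¹ : Sp) : M2)).charpoly

omit [CharP F 2] in
theorem key_conj (y A : Sp) : key (y * A * y⁻¹) = key A := by
  unfold key
  rw [show (y * A * y⁻¹)⁻¹ = y * A⁻¹ * y⁻¹ by group]
  simp only [Submonoid.coe_mul]
  rw [← Matrix.add_mul, ← Matrix.mul_add, charpoly_mul_comm, ← Matrix.mul_assoc, coe_inv_mul,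
    Matrix.one_mul]

omit [CharP F 2] in
theorem key_eq_of_mul_eq_one {A : Sp} {A' : M2} (h : (A : M2) * A' = 1) :
    key A = ((A : M2) + A').charpoly := by
  rw [key, show ((A⁻¹ : Sp) : M2) = A' from left_inv_eq_right_inv (coe_inv_mul A) h]

omit [CharP F 2] in
theorem isForm_comp {Q : (Fin n ⊕ Fin n → F) → F} (hQ : IsForm Q) {A : M2}
    (h : ∀ u v, bil (A *ᵥ u) (A *ᵥ v) = bil u v) : IsForm fun v => Q (A *ᵥ v) := by
  refine ⟨fun c v => ?_, fun u v => ?_⟩
  · simp only [mulVec_smul, hQ.smul]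
  · simp only [mulVec_add, hQ.add, h]

variable [Fintype F]

theorem arf_comp (Q : (Fin n ⊕ Fin n → F) → F) (A : Sp) :
    arf (fun v => Q ((A : M2) *ᵥ v)) = arf Q :=
  Fintype.sum_equiv ⟨fun v => (A : M2) *ᵥ v, fun v => ((A⁻¹ : Sp) : M2) *ᵥ v,
    fun v => by simp only [mulVec_mulVec, coe_inv_mul, one_mulVec],
    fun v => by simp only [mulVec_mulVec, coe_mul_inv, one_mulVec]⟩ _ _ fun _ => rfl

/-- The classes of `OQ Q` do not fuse in the symplectic group. -/
theorem map_injective {Q : (Fin n ⊕ Fin n → F) → F} (hQ : IsForm Q) :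
    Function.Injective (ConjClasses.map (OQ Q).subtype) := by
  intro c d
  obtain ⟨⟨a, ha⟩, rfl⟩ := ConjClasses.mk_surjective c
  obtain ⟨⟨b, hb⟩, rfl⟩ := ConjClasses.mk_surjective d
  intro h
  obtain ⟨y, hy⟩ := isConj_iff.1 (ConjClasses.mk_eq_mk_iff_isConj.1 h)
  simp only [Subgroup.subtype_apply] at hy
  obtain ⟨x, hx2, hxb, hxQ, hxc⟩ := exists_transfer hQ (isForm_comp hQ (bil_map y)) (arf_comp Q y)
  let xs : Sp := ⟨x, mem_symplectic hxb⟩
  have hya : y * a = b * y := by rw [← hy]; group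
  have hax : xs * a = a * xs := by
    refine Subtype.ext (hxc _ _ (coe_mul_inv a) ha fun v => ?_)
    show Q ((y : M2) *ᵥ ((a : M2) *ᵥ v)) = Q ((y : M2) *ᵥ v)
    rw [mulVec_mulVec, ← Submonoid.coe_mul, hya, Submonoid.coe_mul, ← mulVec_mulVec, hb]
  have hc : y * xs ∈ OQ Q := fun v => by
    rw [Submonoid.coe_mul, ← mulVec_mulVec]
    show Q ((y : M2) *ᵥ (x *ᵥ v)) = Q v
    rw [← hxQ, mulVec_mulVec, hx2, one_mulVec]
  refine ConjClasses.mk_eq_mk_iff_isConj.2 (isConj_iff.2 ⟨⟨_, hc⟩, Subtype.ext ?_⟩)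
  show y * xs * a * (y * xs)⁻¹ = b
  rw [mul_assoc y xs a, hax, ← hy]
  group

omit [CharP F 2] [Fintype F] in
/-- Change of coordinates. -/
theorem card_classes_eq {G H : Type*} [Group G] [Group H] (e : G ≃* H) :
    Nat.card (ConjClasses G) = Nat.card (ConjClasses H) :=
  Nat.card_congr
    { toFun := ConjClasses.map e.toMonoidHom
      invFun := ConjClasses.map e.symm.toMonoidHom
      left_inv := fun c => by
        obtain ⟨a, rfl⟩ := ConjClasses.mk_surjective c
        exact congrArg ConjClasses.mk (e.symm_apply_apply a)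
      right_inv := fun c => by
        obtain ⟨a, rfl⟩ := ConjClasses.mk_surjective c
        exact congrArg ConjClasses.mk (e.apply_symm_apply a) }

omit [Fintype F] in
theorem card_isometryGroup {ι : Type} [Fintype ι] [DecidableEq ι] {Q₀ : (ι → F) → F}
    (E : (Fin n ⊕ Fin n → F) ≃ₗ[F] (ι → F)) (hQ : IsForm fun v => Q₀ (E v)) :
    Nat.card (ConjClasses ↥(Cfsg.isometryGroup F Q₀)) =
      Nat.card (ConjClasses ↥(OQ fun v => Q₀ (E v))) := by
  set P : Matrix ι (Fin n ⊕ Fin n) F := LinearMap.toMatrix' E.toLinearMap with hP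
  set P' : Matrix (Fin n ⊕ Fin n) ι F := LinearMap.toMatrix' E.symm.toLinearMap with hP'
  have hPP : P * P' = 1 := by rw [hP, hP', ← LinearMap.toMatrix'_comp]; simp
  have hP'P : P' * P = 1 := by rw [hP, hP', ← LinearMap.toMatrix'_comp]; simp
  have hEv : ∀ v, E v = P *ᵥ v := fun v => by
    rw [hP, ← Matrix.toLin'_apply, Matrix.toLin'_toMatrix']; rfl
  have hpres : ∀ g : Cfsg.isometryGroup F Q₀, Preserves (fun v => Q₀ (E v))
      (P' * ((g.1 : Matrix.GeneralLinearGroup ι F) : Matrix ι ι F) * P) := fun g v => by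
    show Q₀ (E _) = Q₀ (E v)
    rw [hEv, hEv, mulVec_mulVec, ← Matrix.mul_assoc, ← Matrix.mul_assoc, hPP, Matrix.one_mul,
      ← mulVec_mulVec]
    exact g.2 (P *ᵥ v) (P *ᵥ v)
  let f : Cfsg.isometryGroup F Q₀ → OQ (fun v => Q₀ (E v)) := fun g =>
    ⟨⟨P' * ((g.1 : Matrix.GeneralLinearGroup ι F) : Matrix ι ι F) * P,
      mem_symplectic ((hpres g).bil_eq hQ)⟩, hpres g⟩
  have hinv : ∀ A : OQ (fun v => Q₀ (E v)), ∀ u,
      Q₀ ((P * (A.1 : M2) * P') *ᵥ u) = Q₀ u := fun A u => by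
    have h : Q₀ (E _) = Q₀ (E _) := A.2 (P' *ᵥ u)
    rw [hEv, hEv] at h
    simp only [mulVec_mulVec, hPP, one_mulVec, ← Matrix.mul_assoc] at h
    exact h
  refine card_classes_eq
    { toFun := f
      invFun := fun A => ⟨⟨P * (A.1 : M2) * P', P * ((A.1⁻¹ : Sp) : M2) * P', ?_, ?_⟩,
        fun u _ => hinv A u⟩
      left_inv := fun g => Subtype.ext (Units.ext ?_)
      right_inv := fun A => Subtype.ext (Subtype.ext ?_)
      map_mul' := fun g h => Subtype.ext (Subtype.ext ?_) }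
  · rw [show P * (A.1 : M2) * P' * (P * ((A.1⁻¹ : Sp) : M2) * P') =
      P * ((A.1 : M2) * (P' * P) * ((A.1⁻¹ : Sp) : M2)) * P' by simp only [Matrix.mul_assoc],
      hP'P, Matrix.mul_one, coe_mul_inv, Matrix.mul_one, hPP]
  · rw [show P * ((A.1⁻¹ : Sp) : M2) * P' * (P * (A.1 : M2) * P') =
      P * (((A.1⁻¹ : Sp) : M2) * (P' * P) * (A.1 : M2)) * P' by simp only [Matrix.mul_assoc],
      hP'P, Matrix.mul_one, coe_inv_mul, Matrix.mul_one, hPP]
  · show P * (P' * ((g.1 : Matrix.GeneralLinearGroup ι F) : Matrix ι ι F) * P) * P' = _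
    rw [← Matrix.mul_assoc, ← Matrix.mul_assoc, hPP, Matrix.one_mul, Matrix.mul_assoc, hPP,
      Matrix.mul_one]
  · show P' * (P * (A.1 : M2) * P') * P = _
    rw [← Matrix.mul_assoc, ← Matrix.mul_assoc, hP'P, Matrix.one_mul, Matrix.mul_assoc, hP'P,
      Matrix.mul_one]
  · show P' * ((g.1 * h.1 : Matrix.GeneralLinearGroup ι F) : Matrix ι ι F) * P = _ * _
    rw [Units.val_mul]
    show _ = P' * ((g.1 : Matrix.GeneralLinearGroup ι F) : Matrix ι ι F) * P *
      (P' * ((h.1 : Matrix.GeneralLinearGroup ι F) : Matrix ι ι F) * P)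
    simp only [Matrix.mul_assoc]
    rw [← Matrix.mul_assoc P P', hPP, Matrix.one_mul]

/-- The monic polynomial with lower coefficients `a`. -/
noncomputable def poly {N : ℕ} (a : Fin N → F) : F[X] := X ^ N + ∑ i, C (a i) * X ^ (i : ℕ)

omit [CharP F 2] [Fintype F] in
theorem poly_spec {N : ℕ} (a : Fin N → F) :
    (poly a).Monic ∧ (poly a).natDegree = N ∧ ∀ i : Fin N, (poly a).coeff i = a i := by
  have hd := degree_sum_fin_lt a
  refine ⟨monic_X_pow_add hd, natDegree_eq_of_degree_eq_some ?_, fun i => ?_⟩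
  · rw [poly, degree_add_eq_left_of_degree_lt (by rwa [degree_X_pow]), degree_X_pow]
  · simp [poly, coeff_X_pow, i.isLt.ne, Fin.val_inj]

/-- The elements in each symplectic class. -/
theorem exists_sym_elem {a : Fin n → F} {τ : ℤ} (hτ : τ = 1 ∨ τ = -1)
    (hc : (poly a).coeff 0 = 0 ∨ ψ ((poly a).coeff 1 / (poly a).coeff 0) = τ) :
    ∃ (Q : (Fin n ⊕ Fin n → F) → F) (A : Sp), IsForm Q ∧ arf Q = τ * (Fintype.card F : ℤ) ^ n ∧
      A ∈ OQ Q ∧ key A = poly a ^ 2 := by
  obtain ⟨J, S, d, hb⟩ := exists_block n (poly a) τ (poly_spec a).1 (poly_spec a).2.1 hτ hc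
  obtain ⟨Q, g, g', hQ, hArf, hg, hgQ, hchar⟩ := hb.exists_elem
  exact ⟨Q, ⟨g, mem_symplectic (hgQ.bil_eq hQ)⟩, hQ, hArf, hgQ,
    by rw [key_eq_of_mul_eq_one hg]; exact hchar⟩

theorem sq_poly_injective : Function.Injective fun a : Fin n → F => poly a ^ 2 := fun a b h => by
  funext i
  rw [← (poly_spec a).2.2 i, ← (poly_spec b).2.2 i, frobenius_inj F[X] 2 h]

theorem card_bounds {m : ℕ} (hn : n = m + 2)
    (hk : 5 * Nat.card (ConjClasses Sp) ≤ 76 * Fintype.card F ^ n)
    {Q : (Fin n ⊕ Fin n → F) → F} (hQ : IsForm Q) {ε : ℤ} (hε : ε = 1 ∨ ε = -1)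
    (ha : arf Q = ε * (Fintype.card F : ℤ) ^ n) :
    Fintype.card F ^ n ≤ 2 * Nat.card (ConjClasses ↥(OQ Q)) ∧
      Nat.card (ConjClasses ↥(OQ Q)) ≤ 15 * Fintype.card F ^ n := by
  classical
  subst hn
  let U : Finset (Fin (m + 2) → F) := Finset.univ.filter fun a => a 0 = 0
  let T : ℤ → Finset (Fin (m + 2) → F) := fun τ =>
    Finset.univ.filter fun a => a 0 ≠ 0 ∧ ψ (a 1 / a 0) = τ
  have hc01 : ∀ a : Fin (m + 2) → F, (poly a).coeff 0 = a 0 ∧ (poly a).coeff 1 = a 1 := fun a =>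
    ⟨by simpa using (poly_spec a).2.2 0, by simpa using (poly_spec a).2.2 1⟩
  have hU : U.card = Fintype.card F ^ (m + 1) := by
    rw [show Fintype.card F ^ (m + 1) = (Finset.univ : Finset (Fin (m + 1) → F)).card by simp]
    refine Finset.card_bij' (fun a _ => Fin.tail a) (fun b _ => Fin.cons 0 b) (by simp) (by simp [U])
      (fun a ha => ?_) (fun b _ => Fin.tail_cons _ _)
    rw [← (Finset.mem_filter.1 ha).2]
    exact Fin.cons_self_tail a
  obtain ⟨x₀, hx₀⟩ := exists_ψ_neg (F := F)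
  have hTle : ∀ τ, (T τ).card ≤ (T (-τ)).card := fun τ => by
    refine Finset.card_le_card_of_injOn (fun a => Function.update a 1 (a 1 + a 0 * x₀)) (fun a ha => ?_) ?_
    · obtain ⟨-, h0, h1⟩ := Finset.mem_filter.1 (Finset.mem_coe.1 ha)
      simp only [T, Finset.coe_filter, Finset.mem_univ, true_and, Set.mem_setOf_eq]
      rw [Function.update_self, Function.update_of_ne (by simp)]
      refine ⟨h0, ?_⟩
      rw [add_div, mul_div_cancel_left₀ _ h0, ψ_add, h1, hx₀, mul_neg_one]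
    · intro a _ b _ hab
      have h0 : a 0 = b 0 := by simpa using congrFun hab 0
      funext i
      by_cases hi : i = 1
      · subst hi; simpa [h0] using congrFun hab 1
      · simpa [hi] using congrFun hab i
  have hsplit : U.card + (T ε).card + (T (-ε)).card = Fintype.card F ^ (m + 2) := by
    rw [← Finset.card_union_of_disjoint, ← Finset.card_union_of_disjoint,
      show Fintype.card F ^ (m + 2) = (Finset.univ : Finset (Fin (m + 2) → F)).card by simp]
    · congr 1
      ext a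
      simp only [U, T, Finset.mem_union, Finset.mem_filter, Finset.mem_univ, true_and, iff_true]
      by_cases h0 : a 0 = 0
      · simp [h0]
      · rcases hε with rfl | rfl <;> rcases ψ_eq (a 1 / a 0) with h | h <;> simp [h0, h]
    · rw [Finset.disjoint_left]
      simp only [U, T, Finset.mem_union, Finset.mem_filter, Finset.mem_univ, true_and, not_and]
      rintro a (h | ⟨-, h⟩) h0
      · exact absurd h h0
      · rw [h]; rcases hε with rfl | rfl <;> decide
    · rw [Finset.disjoint_left]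
      simp only [U, T, Finset.mem_filter, Finset.mem_univ, true_and, not_and]
      exact fun a h h0 => absurd h h0
  have hTT : (T ε).card = (T (-ε)).card := le_antisymm (hTle ε) (by simpa using hTle (-ε))
  have hnε : -ε = 1 ∨ -ε = -1 := by omega
  have hcondU : ∀ a : {a // a ∈ U ∪ T ε},
      (poly a.1).coeff 0 = 0 ∨ ψ ((poly a.1).coeff 1 / (poly a.1).coeff 0) = ε := fun a => by
    rw [(hc01 a.1).1, (hc01 a.1).2]
    rcases Finset.mem_union.1 a.2 with h | h
    · exact Or.inl (Finset.mem_filter.1 h).2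
    · exact Or.inr (Finset.mem_filter.1 h).2.2
  choose Qa A hQa hQaArf hA hkey using fun a => exists_sym_elem hε (hcondU a)
  choose x hx2 hxb hxQ _ using fun a => exists_transfer hQ (hQa a) ((hQaArf a).trans ha.symm)
  have hlow : (U ∪ T ε).card ≤ Nat.card (ConjClasses ↥(OQ Q)) := by
    rw [← Fintype.card_coe, ← Nat.card_eq_fintype_card]
    let xs : {a // a ∈ U ∪ T ε} → Matrix.symplecticGroup (Fin (m + 2)) F :=
      fun a => ⟨x a, mem_symplectic (hxb a)⟩
    have hxinv : ∀ a, (xs a)⁻¹ = xs a := fun a => inv_eq_of_mul_eq_one_right (Subtype.ext (hx2 a))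
    have hmem : ∀ a, xs a * A a * (xs a)⁻¹ ∈ OQ Q := fun a v => by
      rw [hxinv, Submonoid.coe_mul, Submonoid.coe_mul, ← mulVec_mulVec, ← mulVec_mulVec]
      show Q (x a *ᵥ _) = Q v
      rw [hxQ a, hA a]
      show Qa a (x a *ᵥ v) = Q v
      rw [← hxQ a, mulVec_mulVec, hx2 a, one_mulVec]
    refine Nat.card_le_card_of_injective (fun a => ConjClasses.mk ⟨_, hmem a⟩) fun a b hab => ?_
    obtain ⟨c, hc⟩ := isConj_iff.1 (ConjClasses.mk_eq_mk_iff_isConj.1 hab)
    have e := congrArg (fun g : OQ Q => key (g : Matrix.symplecticGroup (Fin (m + 2)) F)) hc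
    simp only [Subgroup.coe_mul, Subgroup.coe_inv, key_conj, hkey] at e
    exact Subtype.ext (sq_poly_injective e)
  have hcondT : ∀ a : {a // a ∈ T (-ε)},
      (poly a.1).coeff 0 = 0 ∨ ψ ((poly a.1).coeff 1 / (poly a.1).coeff 0) = -ε := fun a => by
    rw [(hc01 a.1).1, (hc01 a.1).2]
    exact Or.inr (Finset.mem_filter.1 a.2).2.2
  choose Qb B hQb hQbArf hB hkeyB using fun a => exists_sym_elem hnε (hcondT a)
  have hup : Nat.card (ConjClasses ↥(OQ Q)) + (T (-ε)).card ≤
      Nat.card (ConjClasses (Matrix.symplecticGroup (Fin (m + 2)) F)) := by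
    rw [← Fintype.card_coe, ← Nat.card_eq_fintype_card, ← Nat.card_sum]
    refine Nat.card_le_card_of_injective (Sum.elim (ConjClasses.map (OQ Q).subtype)
      fun a => ConjClasses.mk (B a)) ((map_injective hQ).sumElim (fun a b hab => ?_) fun c a hca => ?_)
    · obtain ⟨y, hy⟩ := isConj_iff.1 (ConjClasses.mk_eq_mk_iff_isConj.1 hab)
      have e := congrArg key hy
      rw [key_conj, hkeyB, hkeyB] at e
      exact Subtype.ext (sq_poly_injective e)
    · obtain ⟨⟨b, hb⟩, rfl⟩ := ConjClasses.mk_surjective c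
      obtain ⟨y, hy⟩ := isConj_iff.1 (ConjClasses.mk_eq_mk_iff_isConj.1 hca)
      simp only [Subgroup.subtype_apply] at hy
      have hf := isForm_comp hQ (bil_map y⁻¹)
      have hfp : Preserves (fun v => Q (((y⁻¹ : Matrix.symplecticGroup (Fin (m + 2)) F) :
          Matrix (Fin (m + 2) ⊕ Fin (m + 2)) (Fin (m + 2) ⊕ Fin (m + 2)) F) *ᵥ v)) (B a).1 := fun v => by
        have e : y⁻¹ * B a = b * y⁻¹ := by rw [← hy]; group
        simp only [mulVec_mulVec, ← Submonoid.coe_mul, e]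
        rw [Submonoid.coe_mul, ← mulVec_mulVec]
        exact hb _
      obtain ⟨w, hw⟩ := exists_diff (hQb a) hf
      have hfix := fixed_of_preserves (hQb a) hw (coe_mul_inv (B a)) (hB a) hfp
      have hfix' : ((B a)⁻¹).1 *ᵥ w = w := by
        conv_lhs => rw [← hfix]
        rw [mulVec_mulVec, coe_inv_mul, one_mulVec]
      have hdet : ((B a).1 + ((B a)⁻¹).1).det ≠ 0 := by
        rw [det_eq_sign_charpoly_coeff, show ((B a).1 + ((B a)⁻¹).1).charpoly = key (B a) from rfl, hkeyB,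
          sq, mul_coeff_zero, (hc01 a.1).1]
        exact mul_ne_zero (pow_ne_zero _ (neg_ne_zero.2 one_ne_zero))
          (mul_ne_zero (Finset.mem_filter.1 a.2).2.1 (Finset.mem_filter.1 a.2).2.1)
      have hw0 : w = 0 := eq_zero_of_mulVec_eq_zero hdet (by
        rw [add_mulVec, hfix, hfix']
        funext j
        exact CharTwo.add_self_eq_zero _)
      have harf := arf_of_diff (hQb a) hw
      rw [arf_comp Q y⁻¹, hw0, (hQb a).zero, ψ_zero, one_mul, hQbArf, ha] at harf
      have hq : (0 : ℤ) < (Fintype.card F : ℤ) ^ (m + 2) := pow_pos (by exact_mod_cast Fintype.card_pos) _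
      rcases hε with rfl | rfl <;> linarith
  have hdisj : Disjoint U (T ε) := by
    rw [Finset.disjoint_left]
    simp only [U, T, Finset.mem_filter, Finset.mem_univ, true_and, not_and]
    exact fun a h h0 => absurd h h0
  rw [Finset.card_union_of_disjoint hdisj] at hlow
  have hq : 2 * Fintype.card F ^ (m + 1) ≤ Fintype.card F ^ (m + 2) := by
    rw [pow_succ' _ (m + 1)]
    exact Nat.mul_le_mul_right _ (Fintype.one_lt_card (α := F))
  omega

end CfsgLib.OClassNumTwo
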